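import Groth.Agent.PicGalois.Basic
import Groth.Agent.NumOpen.Stage
import Mathlib.FieldTheory.Galois.GaloisClosure
import Mathlib.RingTheory.Etale.Field

/-!
Galois descent of classes on a scheme with a rational point and functions the constants.
-/

set_option autoImplicit false
set_option backward.isDefEq.respectTransparency false
set_option backward.isDefEq.respectTransparency.types false
set_option linter.style.haveILetI false
set_option linter.unusedSectionVars false
set_option maxHeartbeats 1000000

universe u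

open CategoryTheory CategoryTheory.Limits AlgebraicGeometry TopologicalSpace Opposite
open Groth.Agent.W7Cube (pull pull_pull pull_cls)

noncomputable section

namespace Groth.Agent.PicGalois

attribute [local instance] W7Cube.law

theorem pull_id' {Y : Scheme.{u}} (c : PicLoc.PicSet Y) : pull (𝟙 Y) c = c := by
  obtain ⟨N, hN, rfl⟩ := PicGrp.exists_eq_cls c
  exact Subtype.ext (Quot.sound ⟨(Scheme.Modules.pullbackId _).app N⟩)

variable {k : Type u} [Field k] {X : Scheme.{u}} (f : X ⟶ Spec (CommRingCat.of k))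

/-- the base point -/
abbrev base : Over (Spec (CommRingCat.of k)) := Over.mk (𝟙 _)

/-- an extension over the base point -/
abbrev ext (K : Type u) [Field K] [Algebra k K] : Over (Spec (CommRingCat.of k)) :=
  AbDual.ovr (base (k := k)) (Spec.map (CommRingCat.ofHom (algebraMap k K)))

/-- the map of a morphism of extensions -/
abbrev extMap {K L : Type u} [Field K] [Algebra k K] [Field L] [Algebra k L] (φ : K →ₐ[k] L) : ext (k := k) L ⟶ ext (k := k) K :=
  Over.homMk (Spec.map (CommRingCat.ofHom φ.toRingHom)) (by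
    change Spec.map (CommRingCat.ofHom φ.toRingHom) ≫ Spec.map (CommRingCat.ofHom (algebraMap k K)) ≫ 𝟙 _ =
      Spec.map (CommRingCat.ofHom (algebraMap k L)) ≫ 𝟙 _
    rw [Category.comp_id, Category.comp_id, ← Spec.map_comp, ← CommRingCat.ofHom_comp]
    congr 2
    exact φ.comp_algebraMap)

theorem extMap_id (K : Type u) [Field K] [Algebra k K] : extMap (AlgHom.id k K) = 𝟙 (ext (k := k) K) :=
  Over.OverMorphism.ext ((Spec.map_id _) : _)

/-- **finite Galois descent** -/
theorem exists_descent_finite [CompactSpace X] [QuasiSeparatedSpace X] (hH0 : IsIso f.appTop)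
    (x : Spec (CommRingCat.of k) ⟶ X) (hx : x ≫ f = 𝟙 _) (N : Type u) [Field N] [Algebra k N]
    [FiniteDimensional k N] [IsGalois k N] (d : PicLoc.PicSet (PicF.XT f (ext (k := k) N)))
    (hfix : ∀ τ : N ≃ₐ[k] N, pull (PicF.XTmap f (extMap τ.toAlgHom)) d = d) :
    ∃ c : PicLoc.PicSet (PicF.XT f (base (k := k))), pull (PicF.XTmap f (AbDual.ovrHom base (Spec.map (CommRingCat.ofHom (algebraMap k N))))) c = d := by
  let u := Spec.map (CommRingCat.ofHom (algebraMap k N))
  haveI : Flat u := inferInstance
  haveI : LocallyOfFinitePresentation u := by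
    rw [HasRingHomProperty.Spec_iff (P := @LocallyOfFinitePresentation)]
    exact RingHom.finitePresentation_algebraMap.2 (Algebra.FinitePresentation.of_finiteType.1 inferInstance : Algebra.FinitePresentation k N)
  haveI : Surjective u := ⟨fun y => ⟨⟨⊥, Ideal.isPrime_bot⟩, Subsingleton.elim (α := PrimeSpectrum k) _ _⟩⟩
  haveI : Etale u := by
    rw [HasRingHomProperty.Spec_iff (P := @Etale)]
    haveI : Algebra.FormallyEtale k N := Algebra.FormallyEtale.of_isSeparable k N
    haveI : Algebra.FinitePresentation k N := Algebra.FinitePresentation.of_finiteType.1 inferInstance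
    exact RingHom.etale_algebraMap.2 (⟨inferInstance, inferInstance⟩ : Algebra.Etale k N)
  let U := ext (k := k) N
  let W : Over (Spec (CommRingCat.of k)) := AbDual.ovr U (pullback.fst u u)
  let p : W ⟶ U := AbDual.ovrHom U (pullback.fst u u)
  let q : W ⟶ U := Over.homMk (pullback.snd u u) (pullback.condition_assoc (base (k := k)).hom).symm
  have hrig : pull (PicF.secT f x hx U) d = 1 :=
    PicInf.PicZeroGroup.picSet_point (K := N) (pull (PicF.secT f x hx U) d)
  -- sections of the first projection
  let σ : (τ : N ≃ₐ[k] N) → U ⟶ W := fun τ =>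
    Over.homMk (pullback.lift (𝟙 _) (Spec.map (CommRingCat.ofHom τ.toAlgHom.toRingHom)) (by
      rw [Category.id_comp, ← Spec.map_comp, ← CommRingCat.ofHom_comp]
      exact congrArg (fun m => Spec.map (CommRingCat.ofHom m)) τ.toAlgHom.comp_algebraMap.symm))
      (by
        change pullback.lift (𝟙 _) _ _ ≫ pullback.fst u u ≫ U.hom = U.hom
        rw [pullback.lift_fst_assoc, Category.id_comp])
  have hσp : ∀ τ, σ τ ≫ p = 𝟙 U := fun τ => Over.OverMorphism.ext (pullback.lift_fst _ _ _)
  have hσq : ∀ τ, σ τ ≫ q = extMap τ.toAlgHom := fun τ => Over.OverMorphism.ext (pullback.lift_snd _ _ _)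
  haveI : ∀ τ, IsOpenImmersion (σ τ).left := fun τ =>
    EtaleSections.isOpenImmersion_section (pullback.fst u u) _ (pullback.lift_fst _ _ _)
  haveI : Subsingleton U.left := inferInstanceAs (Subsingleton (PrimeSpectrum N))
  -- every point is the image of a section
  have hpt : ∀ w : W.left, ∃ τ, w ∈ Set.range (σ τ).left := fun w => by
    let P : Scheme.{u} := pullback u u
    let κ := P.residueField w
    let φ₁ := Spec.preimage (P.fromSpecResidueField w ≫ pullback.fst u u)
    let φ₂ := Spec.preimage (P.fromSpecResidueField w ≫ pullback.snd u u)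
    have hk : φ₁.hom.comp (algebraMap k N) = φ₂.hom.comp (algebraMap k N) := by
      have e : CommRingCat.ofHom (algebraMap k N) ≫ φ₁ = CommRingCat.ofHom (algebraMap k N) ≫ φ₂ := Spec.map_injective (by
        rw [Spec.map_comp, Spec.map_comp, Spec.map_preimage, Spec.map_preimage, Category.assoc, Category.assoc,
          pullback.condition])
      exact congrArg CommRingCat.Hom.hom e
    letI : Algebra N κ := φ₁.hom.toAlgebra
    letI : Algebra k κ := (φ₁.hom.comp (algebraMap k N)).toAlgebra
    haveI : IsScalarTower k N κ := IsScalarTower.of_algebraMap_eq fun _ => rfl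
    let ψ : N →ₐ[k] κ := { φ₂.hom with commutes' := fun a => (RingHom.congr_fun hk a).symm }
    refine ⟨AlgHom.restrictNormal' ψ N, (pullback.fst u u) w, ?_⟩
    have e : P.fromSpecResidueField w = Spec.map φ₁ ≫ (σ (AlgHom.restrictNormal' ψ N)).left := by
      refine pullback.hom_ext ?_ ?_
      · refine Eq.trans ?_ (Category.assoc _ _ _).symm
        change _ = Spec.map φ₁ ≫ pullback.lift (𝟙 _) _ _ ≫ pullback.fst u u
        rw [pullback.lift_fst, Category.comp_id, Spec.map_preimage]
      · refine Eq.trans ?_ (Category.assoc _ _ _).symm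
        change _ = Spec.map φ₁ ≫ pullback.lift (𝟙 _) _ _ ≫ pullback.snd u u
        rw [pullback.lift_snd, ← Spec.map_comp, ← Spec.map_preimage (P.fromSpecResidueField w ≫ pullback.snd u u)]
        congr 1
        ext a
        exact (AlgHom.restrictNormal_commutes ψ N a).symm
    obtain ⟨z⟩ : Nonempty (Spec κ) := inferInstanceAs (Nonempty (PrimeSpectrum (P.residueField w)))
    have h1 : P.fromSpecResidueField w z = w := Scheme.fromSpecResidueField_apply _ _
    have h2 := congrArg (fun m => m z) e
    refine Eq.trans ?_ h1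
    refine Eq.trans ?_ h2.symm
    exact (congrArg _ (Subsingleton.elim _ _)).trans (Scheme.Hom.comp_apply _ _ _).symm
  choose τ hτ using hpt
  have hglue : pull (PicF.XTmap f p) d = pull (PicF.XTmap f q) d := by
    refine pull_eq_of_pieces f p q d (fun _ => U) (fun w : W.left => σ (τ w)) (fun w => ⟨w, hτ w⟩) ?_ fun w => ?_
    · intro a b w ha hb
      obtain ⟨za, hza⟩ := ha
      obtain ⟨zb, hzb⟩ := hb
      obtain ⟨za', hza'⟩ := hτ a
      obtain ⟨zb', hzb'⟩ := hτ b
      rw [← hza', ← hzb', Subsingleton.elim za' za, Subsingleton.elim zb' zb, hza, hzb]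
    · rw [hσp, hσq, hfix]
      rw [← extMap_id, show AlgHom.id k N = (AlgEquiv.refl : N ≃ₐ[k] N).toAlgHom from rfl, hfix]
  obtain ⟨c, hc, -⟩ := S12403.result f x hx (isIso_XTproj_app f hH0) base u
    ⟨d.1, d.2, congrArg Subtype.val hrig⟩ (congrArg Subtype.val hglue)
  exact ⟨⟨c.1, c.2.1⟩, Subtype.ext hc⟩

/-- a class on the extension comes from a finite Galois stage -/
theorem exists_stage [CompactSpace X] [QuasiSeparatedSpace X] (K : Type u) [Field K] [Algebra k K] [IsGalois k K]
    (d : PicLoc.PicSet (PicF.XT f (ext (k := k) K))) :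
    ∃ (N : IntermediateField k K) (_ : FiniteDimensional k ↥N) (_ : IsGalois k ↥N)
      (dN : PicLoc.PicSet (PicF.XT f (ext (k := k) ↥N))), pull (PicF.XTmap f (extMap N.val)) dN = d := by
  let Ko := ext (k := k) K
  let B₀ : Subalgebra k K := ⊥
  let φ := CommRingCat.ofHom (Algebra.botEquiv k K).toRingEquiv.toRingHom
  let g₀ : X ⟶ Spec (CommRingCat.of ↥B₀) := f ≫ Spec.map φ
  haveI : IsIso φ := (Algebra.botEquiv k K).toRingEquiv.toCommRingCatIso.isIso_hom
  have hbot : ∀ r : ↥B₀, algebraMap k K (Algebra.botEquiv k K r) = r.1 := fun r => by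
    obtain ⟨a, ha⟩ := (Algebra.botEquiv k K).symm.surjective r
    subst ha
    rw [AlgEquiv.apply_symm_apply]
    rfl
  have hval : NumOpen.val B₀ = Ko.hom ≫ Spec.map φ := by
    change _ = (Spec.map _ ≫ 𝟙 _) ≫ _
    rw [Category.comp_id, ← Spec.map_comp]
    change Spec.map _ = Spec.map _
    congr 1
    ext r
    exact (hbot r).symm
  let h : pullback g₀ (NumOpen.val B₀) ⟶ PicF.XT f Ko :=
    pullback.lift (pullback.fst _ _) (pullback.snd _ _) (by
      rw [← cancel_mono (Spec.map φ), Category.assoc, Category.assoc, ← hval]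
      exact pullback.condition)
  let h' : PicF.XT f Ko ⟶ pullback g₀ (NumOpen.val B₀) :=
    pullback.lift (pullback.fst _ _) (pullback.snd _ _) (by
      rw [hval]
      exact pullback.condition_assoc _)
  have hh : h' ≫ h = 𝟙 _ := by apply pullback.hom_ext <;> simp [h, h']
  obtain ⟨B, hBfg, hle, y, hy⟩ := NumOpen.exists_cls g₀ Subalgebra.fg_bot (pull h d)
  obtain ⟨s, rfl⟩ := hBfg
  let G := FiniteGaloisIntermediateField.adjoin k (s : Set K)
  let N : IntermediateField k K := G.toIntermediateField
  haveI : FiniteDimensional k ↥N := G.finiteDimensional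
  haveI : IsGalois k ↥N := G.isGalois
  have hBN : Algebra.adjoin k (s : Set K) ≤ N.toSubalgebra :=
    Algebra.adjoin_le (FiniteGaloisIntermediateField.subset_adjoin k (s : Set K))
  let i : ↥(Algebra.adjoin k (s : Set K)) →+* ↥N := (Subalgebra.inclusion hBN).toRingHom
  have hi : (ext (k := k) ↥N).hom ≫ Spec.map φ = Spec.map (CommRingCat.ofHom i) ≫ NumOpen.inc hle := by
    change (Spec.map _ ≫ 𝟙 _) ≫ _ = _
    rw [Category.comp_id, ← Spec.map_comp, ← Spec.map_comp]
    change Spec.map _ = Spec.map _
    congr 1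
    ext r
    exact hbot r
  let m : PicF.XT f (ext (k := k) ↥N) ⟶ pullback g₀ (NumOpen.inc hle) :=
    pullback.lift (pullback.fst _ _) (pullback.snd _ _ ≫ Spec.map (CommRingCat.ofHom i)) (by
      rw [Category.assoc, ← hi]
      exact pullback.condition_assoc _)
  have e : PicF.XTmap f (extMap N.val) ≫ m = h' ≫ NumOpen.proj g₀ hle := by
    apply pullback.hom_ext
    · rw [Category.assoc, Category.assoc, NumOpen.proj_fst, pullback.lift_fst, pullback.lift_fst]
      exact (pullback.lift_fst _ _ _).trans (Category.comp_id _)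
    · rw [Category.assoc, Category.assoc, NumOpen.proj_snd, pullback.lift_snd, pullback.lift_snd_assoc]
      refine (pullback.lift_snd_assoc _ _ _ _).trans ?_
      rw [Category.assoc]
      refine congrArg (pullback.snd f _ ≫ ·) ?_
      change Spec.map _ ≫ Spec.map _ = Spec.map _
      rw [← Spec.map_comp]
      rfl
  refine ⟨N, inferInstance, inferInstance, pull m y, ?_⟩
  rw [pull_pull, e, ← pull_pull, hy, pull_pull, hh, pull_id']

/-- Galois descent, over the base point -/
theorem exists_descent_ext [CompactSpace X] [QuasiSeparatedSpace X] (hH0 : IsIso f.appTop)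
    (x : Spec (CommRingCat.of k) ⟶ X) (hx : x ≫ f = 𝟙 _) (K : Type u) [Field K] [Algebra k K] [IsGalois k K]
    (d : PicLoc.PicSet (PicF.XT f (ext (k := k) K)))
    (hfix : ∀ σ : K ≃ₐ[k] K, pull (PicF.XTmap f (extMap σ.toAlgHom)) d = d) :
    ∃ c : PicLoc.PicSet (PicF.XT f (base (k := k))),
      pull (PicF.XTmap f (AbDual.ovrHom base (Spec.map (CommRingCat.ofHom (algebraMap k K))))) c = d := by
  obtain ⟨N, _, _, dN, hdN⟩ := exists_stage f K d
  let w : ext (k := k) K ⟶ ext (k := k) ↥N := extMap N.val
  haveI : Flat w.left := inferInstanceAs (Flat (Spec.map (CommRingCat.ofHom N.val.toRingHom)))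
  haveI : Surjective w.left := ⟨fun y => ⟨⟨⊥, Ideal.isPrime_bot⟩, Subsingleton.elim (α := PrimeSpectrum ↥N) _ _⟩⟩
  haveI : QuasiCompact w.left := inferInstanceAs (QuasiCompact (Spec.map (CommRingCat.ofHom N.val.toRingHom)))
  obtain ⟨c, hc⟩ := exists_descent_finite f hH0 x hx ↥N dN fun τ => by
    refine pull_injective f hH0 (K := ↥N) rfl w _ _ ?_
    have hwσ : w ≫ extMap τ.toAlgHom = extMap (τ.liftNormal K).toAlgHom ≫ w := Over.OverMorphism.ext (by
      change Spec.map _ ≫ Spec.map _ = Spec.map _ ≫ Spec.map _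
      rw [← Spec.map_comp, ← Spec.map_comp]
      congr 1
      ext a
      exact (AlgEquiv.liftNormal_commutes τ K a).symm)
    rw [pull_pull, XTmap_comp, hwσ, ← XTmap_comp, ← pull_pull, hdN, hfix]
  refine ⟨c, ?_⟩
  have e : w ≫ AbDual.ovrHom base (Spec.map (CommRingCat.ofHom (algebraMap k ↥N))) =
      AbDual.ovrHom base (Spec.map (CommRingCat.ofHom (algebraMap k K))) := Over.OverMorphism.ext (by
    change Spec.map _ ≫ Spec.map _ = Spec.map _
    rw [← Spec.map_comp]
    rfl)
  rw [← e, ← XTmap_comp, ← pull_pull, hc, hdN]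

/-- **Galois descent** -/
theorem exists_descent [CompactSpace X] [QuasiSeparatedSpace X] (hH0 : IsIso f.appTop)
    (x : Spec (CommRingCat.of k) ⟶ X) (hx : x ≫ f = 𝟙 _) (K : Type u) [Field K] [Algebra k K] [IsGalois k K]
    (d : PicLoc.PicSet (pullback f (Spec.map (CommRingCat.ofHom (algebraMap k K)))))
    (hfix : ∀ σ : K ≃ₐ[k] K, pull (PicF2.twistAut f σ) d = d) :
    ∃ c : PicLoc.PicSet X, pull (pullback.fst f (Spec.map (CommRingCat.ofHom (algebraMap k K)))) c = d := by
  let u := Spec.map (CommRingCat.ofHom (algebraMap k K))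
  let Ko := ext (k := k) K
  have hKo : Ko.hom = u := Category.comp_id _
  let π : PicF.XT f Ko ⟶ pullback f u := pullback.lift (pullback.fst f Ko.hom) (pullback.snd f Ko.hom) (by
    rw [← hKo]; exact pullback.condition)
  let ρ : pullback f u ⟶ PicF.XT f Ko := pullback.lift (pullback.fst f u) (pullback.snd f u) (by
    rw [hKo]; exact pullback.condition)
  have hρπ : ρ ≫ π = 𝟙 _ := by apply pullback.hom_ext <;> simp [π, ρ]
  have hπ1 : π ≫ pullback.fst f u = pullback.fst f Ko.hom := pullback.lift_fst _ _ _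
  have hπ2 : π ≫ pullback.snd f u = pullback.snd f Ko.hom := pullback.lift_snd _ _ _
  have htw : ∀ σ : K ≃ₐ[k] K, π ≫ PicF2.twistAut f σ = PicF.XTmap f (extMap σ.toAlgHom) ≫ π := fun σ => by
    have ht1 : PicF2.twistAut f σ ≫ pullback.fst f u = pullback.fst f u :=
      (pullback.lift_fst _ _ _).trans (Category.comp_id _)
    have ht2 : PicF2.twistAut f σ ≫ pullback.snd f u = pullback.snd f u ≫ Spec.map (CommRingCat.ofHom (σ : K →+* K)) :=
      pullback.lift_snd _ _ _
    have hX1 : PicF.XTmap f (extMap σ.toAlgHom) ≫ pullback.fst f Ko.hom = pullback.fst f Ko.hom :=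
      (pullback.lift_fst _ _ _).trans (Category.comp_id _)
    have hX2 : PicF.XTmap f (extMap σ.toAlgHom) ≫ pullback.snd f Ko.hom =
        pullback.snd f Ko.hom ≫ Spec.map (CommRingCat.ofHom (σ : K →+* K)) :=
      pullback.lift_snd _ _ _
    apply pullback.hom_ext
    · rw [Category.assoc, Category.assoc, ht1, hπ1, hX1]
    · rw [Category.assoc, Category.assoc, ht2, hπ2, reassoc_of% hπ2, hX2]
  obtain ⟨c, hc⟩ := exists_descent_ext f hH0 x hx K (pull π d) fun σ => by
    rw [pull_pull, ← htw, ← pull_pull, hfix]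
  let π₀ : X ⟶ PicF.XT f (base (k := k)) := pullback.lift (𝟙 X) f ((Category.id_comp _).trans (Category.comp_id _).symm)
  refine ⟨pull π₀ c, ?_⟩
  have e : pullback.fst f u ≫ π₀ = ρ ≫ PicF.XTmap f (AbDual.ovrHom base u) := by
    have h01 : π₀ ≫ pullback.fst f (base (k := k)).hom = 𝟙 X := pullback.lift_fst _ _ _
    have h02 : π₀ ≫ pullback.snd f (base (k := k)).hom = f := pullback.lift_snd _ _ _
    have hw1 : PicF.XTmap f (AbDual.ovrHom base u) ≫ pullback.fst f (base (k := k)).hom = pullback.fst f Ko.hom :=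
      (pullback.lift_fst _ _ _).trans (Category.comp_id _)
    have hw2 : PicF.XTmap f (AbDual.ovrHom base u) ≫ pullback.snd f (base (k := k)).hom = pullback.snd f Ko.hom ≫ u :=
      pullback.lift_snd _ _ _
    have hr1 : ρ ≫ pullback.fst f Ko.hom = pullback.fst f u := pullback.lift_fst _ _ _
    have hr2 : ρ ≫ pullback.snd f Ko.hom = pullback.snd f u := pullback.lift_snd _ _ _
    apply pullback.hom_ext
    · rw [Category.assoc, Category.assoc, h01, hw1, hr1, Category.comp_id]
    · rw [Category.assoc, Category.assoc, h02, hw2, reassoc_of% hr2]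
      exact pullback.condition
  change pull (pullback.fst f u) (pull π₀ c) = d
  rw [pull_pull, e, ← pull_pull, hc, pull_pull, hρπ, pull_id']

end Groth.Agent.PicGalois
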